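import Mathlib
import Cfsg.Agent.Lib.LieModel.Fields
import Cfsg.Agent.Lib.LieModel.O8p2.P.Main
import Cfsg.Agent.S0293
import Cfsg.Agent.Lib.Classical.SmallIso3

/-! `Cfsg.POmega F (Cfsg.quadFormPlus 4 F)` as a permutation group on 120 points (generated) -/

set_option autoImplicit false
set_option maxRecDepth 100000
set_option Elab.async false

namespace CfsgLib.LieModel.O8p2

open CfsgLib.Comput CfsgLib.Classical CfsgLib.Recog Matrix

/-- the coding of vectors -/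
abbrev C : Cd (ZMod 2) (Fin 4 ⊕ Fin 4) := cd2 8 (sumIdx 4 4)

theorem good : C.Good := cd2_good ⟨by decide +kernel, by decide +kernel⟩

/-- the table of points -/
noncomputable def T : ℕ := 0xfefdfbf8f7f4f2f1efeee9e8e5e4e3e2dfdddad8d6d4d3d1cbcac9c8c7c6c5c4bfbcbbb8b6b5b2b1adaca9a8a7a6a3a29e9c9a98979593918f8e8d8c8b8a89887f7c7a79777472716d6c6b6a656463625e5c5b59565453514f4e4d4c474645443e3d3a39363532312f2e2b2a272623221f1d1b1917151311

theorem inj : ProjInj 120 (C.pt T) := Cd.projInj good (allLt_sound (by decide +kernel))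

/-- the scalars -/
noncomputable def LS : List (List ℕ) := [[0x100000000000000000000000000000001, 0x100000000000000000000000000010000, 0x100000000000000000000000100000000, 0x100000000000000000001000000000000, 0x100000000000000010000000000000000, 0x100000000000100000000000000000000, 0x100000001000000000000000000000000, 0x100010000000000000000000000000000]]

theorem scal : C.Scal LS :=
  Cd.Scal.cons (c := C.fK 1) ((Cd.codes_of_entries good (M := [0x1, 0x2, 0x4, 0x8, 0x10, 0x20, 0x40, 0x80]) (by decide +kernel)).cols (by decide +kernel)) (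
  Cd.Scal.nil)

noncomputable def A0 : Matrix (Fin 4 ⊕ Fin 4) (Fin 4 ⊕ Fin 4) (ZMod 2) := C.mat sumIx [0xf, 0x4, 0x9b, 0x34, 0x28, 0xfa, 0xc, 0x9]
noncomputable def X0 : Matrix (Fin 4 ⊕ Fin 4) (Fin 4 ⊕ Fin 4) (ZMod 2) := C.mat sumIx [0xa0, 0xe0, 0x20, 0xf0, 0xdc, 0x5, 0xaa, 0xa1]
noncomputable def Y0 : Matrix (Fin 4 ⊕ Fin 4) (Fin 4 ⊕ Fin 4) (ZMod 2) := C.mat sumIx [0xba, 0xb9, 0xf9, 0xb3, 0x58, 0xdc, 0xb4, 0x78]
noncomputable def X0' : Matrix (Fin 4 ⊕ Fin 4) (Fin 4 ⊕ Fin 4) (ZMod 2) := C.mat sumIx [0x81, 0xfc, 0xa1, 0xbd, 0xa, 0x4, 0x3, 0x5]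
noncomputable def Y0' : Matrix (Fin 4 ⊕ Fin 4) (Fin 4 ⊕ Fin 4) (ZMod 2) := C.mat sumIx [0xff, 0xfc, 0x4b, 0xf6, 0xe0, 0x90, 0x6, 0x7b]
noncomputable def g0 : Cfsg.Omega (ZMod 2) (Cfsg.quadFormPlus 4 (ZMod 2)) :=
  omegaOf (isoOf (plus_eq 4) X0 X0' (by decide +kernel)) (isoOf (plus_eq 4) Y0 Y0' (by decide +kernel))
theorem g0_val : omegaMat (Cfsg.quadFormPlus 4 (ZMod 2)) g0 = A0 :=
  omegaMat_omegaOf (show A0 * (Y0 * X0) = X0 * Y0 by decide +kernel)

theorem c0 : Compat (C.pt T) A0 (permG 120 P.W 0) :=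
  Cd.compat good (OK_nth P.W_ok 0) (L := [0x400000000000000000001000100010001, 0x100000000000000000000000100000000, 0x500010000000000010001000000010001, 0x300000000000100010000000100000000, 0x200000000000100000001000000000000, 0x600010001000100010001000000010000, 0x200000000000000000001000100000000, 0x200000000000000000001000000000001])
    ((Cd.codes_of_entries good (M := [0xf, 0x4, 0x9b, 0x34, 0x28, 0xfa, 0xc, 0x9]) (by decide +kernel)).cols (by decide +kernel)) scal (allLt_sound (by decide +kernel))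

noncomputable def A1 : Matrix (Fin 4 ⊕ Fin 4) (Fin 4 ⊕ Fin 4) (ZMod 2) := C.mat sumIx [0xd5, 0xbd, 0xab, 0x57, 0xf6, 0x52, 0xd2, 0x66]
noncomputable def X1 : Matrix (Fin 4 ⊕ Fin 4) (Fin 4 ⊕ Fin 4) (ZMod 2) := C.mat sumIx [0xa1, 0x60, 0x38, 0x18, 0x10, 0x1c, 0xe, 0xce]
noncomputable def Y1 : Matrix (Fin 4 ⊕ Fin 4) (Fin 4 ⊕ Fin 4) (ZMod 2) := C.mat sumIx [0x9f, 0x50, 0xf, 0x52, 0x57, 0xa4, 0xd7, 0x30]
noncomputable def X1' : Matrix (Fin 4 ⊕ Fin 4) (Fin 4 ⊕ Fin 4) (ZMod 2) := C.mat sumIx [0xc3, 0x70, 0x28, 0x18, 0x10, 0xc, 0xe, 0xce]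
noncomputable def Y1' : Matrix (Fin 4 ⊕ Fin 4) (Fin 4 ⊕ Fin 4) (ZMod 2) := C.mat sumIx [0xbd, 0xa, 0xa5, 0x16, 0x55, 0xd5, 0x57, 0x50]
noncomputable def g1 : Cfsg.Omega (ZMod 2) (Cfsg.quadFormPlus 4 (ZMod 2)) :=
  omegaOf (isoOf (plus_eq 4) X1 X1' (by decide +kernel)) (isoOf (plus_eq 4) Y1 Y1' (by decide +kernel))
theorem g1_val : omegaMat (Cfsg.quadFormPlus 4 (ZMod 2)) g1 = A1 :=
  omegaMat_omegaOf (show A1 * (Y1 * X1) = X1 * Y1 by decide +kernel)

theorem c1 : Compat (C.pt T) A1 (permG 120 P.W 2) :=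
  Cd.compat good (OK_nth P.W_ok 2) (L := [0x500010001000000010000000100000001, 0x600010000000100010001000100000001, 0x500010000000100000001000000010001, 0x500000001000000010000000100010001, 0x600010001000100010000000100010000, 0x300000001000000010000000000010000, 0x400010001000000010000000000010000, 0x400000001000100000000000100010000])
    ((Cd.codes_of_entries good (M := [0xd5, 0xbd, 0xab, 0x57, 0xf6, 0x52, 0xd2, 0x66]) (by decide +kernel)).cols (by decide +kernel)) scal (allLt_sound (by decide +kernel))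

/-- the generators -/
noncomputable def g (m : ℕ) : Cfsg.Omega (ZMod 2) (Cfsg.quadFormPlus 4 (ZMod 2)) :=
  if m = 0 then g0 else g1

theorem hyp : ∀ m ∈ [0, 2], m < 255 ∧ Compat (C.pt T) (omegaMat (Cfsg.quadFormPlus 4 (ZMod 2)) (g m)) (permG 120 P.W m) := by
  simp only [List.forall_mem_cons]
  exact ⟨⟨by norm_num, (congrArg (fun A => Compat (C.pt T) A _) g0_val).mpr c0⟩, ⟨by norm_num, (congrArg (fun A => Compat (C.pt T) A _) g1_val).mpr c1⟩, List.forall_mem_nil _⟩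

/-- the permutation group -/
noncomputable abbrev PG : Subgroup (Equiv.Perm (Fin 120)) := cl (permG 120 P.W) P.top

theorem card_PG : Nat.card PG = 174182400 := P.card_perm

theorem card_G : Nat.card (Cfsg.POmega (ZMod 2) (Cfsg.quadFormPlus 4 (ZMod 2))) = 174182400 := by
  have := Cfsg.Agent.S0293.result (F := ZMod 2) (q := 2) (ZMod.card 2) 4 le_rfl
  simp only [Finset.prod_range_succ, Finset.prod_range_zero] at this
  norm_num at this
  omega

theorem center_PG : Subgroup.center PG = ⊥ :=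
  center_eq_bot_of_chk P.W_ok (by norm_num) (P.inA_top P.E) (hs := P.L0.hs) (a := 0) (r := 7) (by decide +kernel)

theorem exists_iso : ∃ e : (Cfsg.POmega (ZMod 2) (Cfsg.quadFormPlus 4 (ZMod 2))) ≃* PG, ∀ x ∈ cl (fun m => (g m, permG 120 P.W m)) P.top,
    (e (QuotientGroup.mk x.1) : Equiv.Perm (Fin 120)) = x.2 := by
  have : Finite (Cfsg.POmega (ZMod 2) (Cfsg.quadFormPlus 4 (ZMod 2))) := Nat.finite_of_card_ne_zero (by rw [card_G]; norm_num)
  exact link_quot (omegaMat (Cfsg.quadFormPlus 4 (ZMod 2))) inj hyp rfl center_PG (card_G.trans card_PG.symm).le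

theorem iso {F : Type*} [Field F] [Fintype F] (hF : Fintype.card F = 2) :
    Nonempty ((Cfsg.POmega F (Cfsg.quadFormPlus 4 F)) ≃* PG) := by
  obtain ⟨f, -⟩ := exists_iso
  let e : F ≃+* (ZMod 2) := FiniteField.ringEquivOfCardEq (hF.trans (ZMod.card 2).symm)
  exact ⟨(pomegaMapEquiv e _ _ (quadFormPlus_map e 4)).trans f⟩

end CfsgLib.LieModel.O8p2
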